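import Groth.Agent.S14401
import Groth.Agent.InvExt.Compl
import Groth.Agent.AVLib.DivSection
import Groth.Agent.AmpleEmb.Inverse
import Groth.Agent.S8914
import Groth.Agent.RegLocal.UFD
import Groth.Agent.RegLocal.Basic
import Groth.Prelude

/-!
# Ample families on locally factorial schemes with affine diagonal
-/

set_option autoImplicit false
set_option backward.isDefEq.respectTransparency false
set_option linter.style.haveILetI false

universe u

open CategoryTheory CategoryTheory.Limits AlgebraicGeometry TopologicalSpace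

noncomputable section

namespace Groth.Agent.AmpleFactLib

/-- Every point of a Noetherian scheme with integral local rings has a dense affine open neighbourhood. -/
theorem exists_dense_affine_nhd (X : Scheme.{u}) [IsNoetherian X]
    (hdom : ∀ x : X, IsDomain (X.presheaf.stalk x)) (x : X) :
    ∃ U : X.Opens, IsAffineOpen U ∧ x ∈ U ∧ Dense (U : Set X) := by
  classical
  obtain ⟨hop, huniq⟩ := Groth.Agent.S14401.result X hdom
  have hfin := NoetherianSpace.finite_irreducibleComponents (α := X)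
  haveI := hfin.to_subtype
  have hW : ∀ Z : irreducibleComponents X, ∃ W : X.Opens, IsAffineOpen W ∧
      (W : Set X) ⊆ Z.1 ∧ (W : Set X).Nonempty ∧ (x ∈ Z.1 → x ∈ W) := fun Z => by
    obtain ⟨y, hy, hxy⟩ : ∃ y ∈ Z.1, x ∈ Z.1 → y = x := by
      by_cases hx : x ∈ Z.1
      · exact ⟨x, hx, fun _ => rfl⟩
      · obtain ⟨y, hy⟩ := Z.2.1.nonempty
        exact ⟨y, hy, fun h => absurd h hx⟩
    obtain ⟨_, ⟨W, hW, rfl⟩, hyW, hWO⟩ := X.isBasis_affineOpens.exists_subset_of_mem_open hy (hop Z.1 Z.2)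
    exact ⟨W, hW, hWO, ⟨y, hyW⟩, fun h => hxy h ▸ hyW⟩
  choose W hWaff hWsub hWne hWx using hW
  refine ⟨⨆ Z, W Z, IsAffineOpen.iSup_of_disjoint hWaff fun Z Z' hne => ?_, ?_, ?_⟩
  · rw [Function.onFun, ← Opens.coe_disjoint, Set.disjoint_left]
    intro y hy hy'
    obtain ⟨C, -, hC⟩ := huniq y
    exact hne (Subtype.ext ((hC Z.1 ⟨Z.2, hWsub Z hy⟩).trans (hC Z'.1 ⟨Z'.2, hWsub Z' hy'⟩).symm))
  · obtain ⟨C, ⟨hC, hxC⟩, -⟩ := huniq x
    exact Opens.mem_iSup.2 ⟨⟨C, hC⟩, hWx ⟨C, hC⟩ hxC⟩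
  · intro y
    obtain ⟨C, ⟨hC, hyC⟩, -⟩ := huniq y
    refine closure_mono (SetLike.coe_subset_coe.mpr (le_iSup W ⟨C, hC⟩ : W ⟨C, hC⟩ ≤ _)) ?_
    exact (subset_closure_inter_of_isPreirreducible_of_isOpen hC.1.isPreirreducible (W ⟨C, hC⟩).2
      ((hWne ⟨C, hC⟩).imp fun y hy => ⟨hWsub ⟨C, hC⟩ hy, hy⟩)).trans (closure_mono Set.inter_subset_right)
      hyC

/-- A Noetherian scheme with affine diagonal and factorial local rings has an ample family of
invertible modules. -/
theorem hasAmpleFamily (X : Scheme.{u}) [IsNoetherian X]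
    (hΔ : ∀ U V : X.Opens, IsAffineOpen U → IsAffineOpen V → IsAffineOpen (U ⊓ V))
    (hdom : ∀ x : X, IsDomain (X.presheaf.stalk x))
    (hufd : ∀ x : X, UniqueFactorizationMonoid (X.presheaf.stalk x)) :
    MoreMor.HasAmpleFamily X := by
  refine ⟨inferInstance, fun x => ?_⟩
  obtain ⟨U, hU, hxU, hdense⟩ := exists_dense_affine_nhd X hdom x
  obtain ⟨I, hI, hsupp⟩ := Groth.Agent.InvExt.exists_effCartier_compl U hU hdense hΔ
    fun y _ => ⟨hdom y, hufd y⟩
  obtain ⟨L, hL, hLI⟩ := Groth.Agent.AmpleEmb.exists_isInverseOf ((Groth.Agent.S8914.result I).2 hI)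
  obtain ⟨s, hs⟩ := Groth.Agent.AVLib.exists_section_genLocus_compl hI hL
    ⟨Groth.Agent.AmpleLib.comm _ _ ≪≫ hLI.some⟩
  refine ⟨L, 1, s ≫ (Groth.Agent.AmpleLib.powOne L).inv, hL, le_rfl, ?_⟩
  have hg : CohB1.genLocus (CohB1.tensorPow L 1) (s ≫ (Groth.Agent.AmpleLib.powOne L).inv) = U := by
    rw [show (Groth.Agent.AmpleLib.powOne L).inv = (Groth.Agent.AmpleLib.powOne L).symm.hom from rfl,
      Groth.Agent.AmpleLib.genLocus_comp_iso s (Groth.Agent.AmpleLib.powOne L).symm, hs]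
    refine SetLike.coe_injective ?_
    show (I.support : Set X)ᶜ = (U : Set X)
    rw [hsupp, compl_compl]
  rw [hg]
  exact ⟨hxU, hU⟩

/-- A Noetherian scheme with regular local rings has factorial local rings. -/
theorem factorial_of_regular (X : Scheme.{u}) (hreg : ∀ x : X, IsRegularLocalRing (X.presheaf.stalk x)) :
    (∀ x : X, IsDomain (X.presheaf.stalk x)) ∧ ∀ x : X, UniqueFactorizationMonoid (X.presheaf.stalk x) := by
  refine ⟨fun x => ?_, fun x => ?_⟩
  · haveI := hreg x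
    exact Groth.Agent.RegLocal.isDomain _
  · haveI := hreg x
    haveI : IsDomain (X.presheaf.stalk x) := Groth.Agent.RegLocal.isDomain _
    exact Groth.Agent.RegLocal.ufd _

end Groth.Agent.AmpleFactLib
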